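import Mathlib

/-!
The arithmetic of two rational columns.
-/

set_option autoImplicit false

open scoped BigOperators

namespace CfsgLib.NineSelfCent

variable {ι : Type*} [Fintype ι] [DecidableEq ι] {x y : ι → ℤ}

/-- Two orthogonal columns of norm nine, congruent modulo three, differ in two places. -/
theorem exists_pair (hx : ∑ i, x i * x i = 9) (hy : ∑ i, y i * y i = 9)
    (hxy : ∑ i, x i * y i = 0) (hmod : ∀ i, (3 : ℤ) ∣ x i - y i) :
    ∃ p q, p ≠ q ∧ (x p - y p) * (x p - y p) = 9 ∧ (x q - y q) * (x q - y q) = 9 ∧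
      ∀ i, i ≠ p → i ≠ q → x i = y i := by
  have hd : ∑ i, (x i - y i) * (x i - y i) = 18 := by
    have e : ∀ i, (x i - y i) * (x i - y i) = x i * x i + y i * y i - 2 * (x i * y i) := fun i => by
      ring
    simp only [e, Finset.sum_sub_distrib, Finset.sum_add_distrib, ← Finset.mul_sum, hx, hy, hxy]
    norm_num
  let T := Finset.univ.filter fun i => x i ≠ y i
  have hT : ∑ i ∈ T, (x i - y i) * (x i - y i) = 18 := by
    rw [Finset.sum_filter, ← hd]
    refine Finset.sum_congr rfl fun i _ => ?_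
    split
    · rfl
    · rename_i h
      simp only [ne_eq, not_not] at h
      simp [h]
  have h9 : ∀ i ∈ T, 9 ≤ (x i - y i) * (x i - y i) := by
    intro i hi
    simp [T] at hi
    obtain ⟨k, hk⟩ := hmod i
    have : k ≠ 0 := fun e => hi (by rw [e] at hk; omega)
    have := mul_self_pos.mpr this
    rw [hk]; nlinarith
  have hcard : (T.card : ℤ) * 9 ≤ 18 := by
    rw [← hT]
    simpa using Finset.card_nsmul_le_sum T _ 9 h9
  have h2 : T.card = 0 ∨ T.card = 1 ∨ T.card = 2 := by omega
  rcases h2 with h2 | h2 | h2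
  · rw [Finset.card_eq_zero.mp h2] at hT; simp at hT
  · obtain ⟨p, hp⟩ := Finset.card_eq_one.mp h2
    rw [hp, Finset.sum_singleton] at hT
    obtain ⟨k, hk⟩ := hmod p
    rw [hk] at hT
    exfalso
    rcases le_or_gt k 1 with hle | hgt
    · rcases le_or_gt (-1) k with hge | hlt
      · interval_cases k <;> norm_num at hT
      · nlinarith
    · nlinarith
  · obtain ⟨p, q, hpq, hp⟩ := Finset.card_eq_two.mp h2
    have hp9 := h9 p (by rw [hp]; simp)
    have hq9 := h9 q (by rw [hp]; simp)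
    rw [hp, Finset.sum_pair hpq] at hT
    refine ⟨p, q, hpq, by linarith, by linarith, fun i h1 h2' => ?_⟩
    by_contra hne
    have : i ∈ ({p, q} : Finset ι) := hp ▸ (by simp [T, hne])
    simp [h1, h2'] at this

theorem sum_split {M : Type*} [AddCommMonoid M] (f : ι → M) {p q : ι} (hpq : p ≠ q) :
    ∑ i, f i = f p + f q + ∑ i ∈ Finset.univ \ {p, q}, f i := by
  rw [← Finset.sum_pair hpq, add_comm, Finset.sum_sdiff (Finset.subset_univ _)]

theorem pair_values {a b : ℤ} (ha : a * a ≤ 8) (hb : b * b ≤ 8) (hd : (a - b) * (a - b) = 9) :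
    (a = 2 ∧ b = -1) ∨ (a = -2 ∧ b = 1) ∨ (a = 1 ∧ b = -2) ∨ (a = -1 ∧ b = 2) := by
  have : a ≤ 2 := by nlinarith
  have : -2 ≤ a := by nlinarith
  have : b ≤ 2 := by nlinarith
  have : -2 ≤ b := by nlinarith
  interval_cases a <;> interval_cases b <;> simp_all

/-- The column pair in the case of a normalizer of order `18`. -/
theorem small_of_two (z : ι → ℤ) (n : ι → ℕ) {g : ℕ} (hg : 0 < g) (hn : ∀ i, 0 < n i)
    (hx : ∑ i, x i * x i = 9) (hy : ∑ i, y i * y i = 9) (hxy : ∑ i, x i * y i = 0)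
    (hmod : ∀ i, (3 : ℤ) ∣ x i - y i) (hnx : ∑ i, (n i : ℤ) * x i = 0)
    (hny : ∑ i, (n i : ℤ) * y i = 0) (hsq : ∑ i, n i * n i = g)
    (heq : (g : ℝ) * ∑ i, ((x i : ℝ) * z i * y i) / n i = 81)
    (hzero : (g : ℝ) * ∑ i, ((x i : ℝ) * x i * z i) / n i = 0) : g ≤ 364 := by
  obtain ⟨p, q, hpq, hp, hq, hr⟩ := exists_pair hx hy hxy hmod
  have hd : (n p : ℤ) * (x p - y p) + n q * (x q - y q) = 0 := by
    have e : ∑ i, (n i : ℤ) * (x i - y i) = 0 := by
      simp only [mul_sub, Finset.sum_sub_distrib, hnx, hny, sub_zero]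
    rw [sum_split _ hpq, Finset.sum_eq_zero (fun i hi => by
      simp at hi; rw [hr i hi.1 hi.2]; ring), add_zero] at e
    exact e
  obtain ⟨hdd, hnn⟩ : (x q - y q) = -(x p - y p) ∧ n p = n q := by
    have hnp := hn p
    have hnq := hn q
    rcases (mul_self_eq_mul_self_iff.mp (hq.trans hp.symm)) with e | e
    · rw [e, ← add_mul] at hd
      rcases mul_eq_zero.mp hd with h | h
      · omega
      · rw [h] at hp; norm_num at hp
    · refine ⟨e, ?_⟩
      rw [e, mul_neg, ← sub_eq_add_neg, ← sub_mul] at hd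
      rcases mul_eq_zero.mp hd with h | h
      · omega
      · rw [h] at hp; norm_num at hp
  let K : ℤ := x p * z p * (y p - x p) + x q * z q * (y q - x q)
  have hK : (g : ℝ) * ((K : ℝ) / n p) = 81 := by
    have e : (g : ℝ) * ∑ i, ((x i : ℝ) * z i * (y i - x i)) / n i = 81 := by
      have e' : ∀ i, ((x i : ℝ) * z i * (y i - x i)) / n i =
          (x i : ℝ) * z i * y i / n i - (x i : ℝ) * x i * z i / n i := fun i => by ring
      rw [Finset.sum_congr rfl (fun i _ => e' i), Finset.sum_sub_distrib, mul_sub, heq, hzero,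
        sub_zero]
    rw [sum_split _ hpq, Finset.sum_eq_zero (fun i hi => by
      simp at hi; simp [hr i hi.1 hi.2]), add_zero, ← hnn, ← add_div] at e
    rw [← e]
    simp [K]
  have h3 : (3 : ℤ) ∣ K := dvd_add (dvd_mul_of_dvd_right (by
    have := (hmod p).neg_right; simpa using this) _) (dvd_mul_of_dvd_right (by
    have := (hmod q).neg_right; simpa using this) _)
  have hb : (0 : ℝ) < n p := by exact_mod_cast hn p
  have hgR : (0 : ℝ) < g := by exact_mod_cast hg
  have hK' : (g : ℝ) * K = 81 * n p := by rw [← hK]; field_simp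
  have hK'' : (g : ℤ) * K = 81 * n p := by exact_mod_cast hK'
  have hK3 : 3 ≤ K := by
    have hpos : 0 < K := by
      by_contra hc
      push Not at hc
      have := mul_nonpos_of_nonneg_of_nonpos (Int.natCast_nonneg g) hc
      have := hn p
      omega
    obtain ⟨k, hk⟩ := h3
    omega
  have hb2 : 2 * (n p * n p) ≤ g := by
    rw [← hsq, sum_split _ hpq, ← hnn]
    omega
  have h27 : g ≤ 27 * n p := by
    have : (g : ℤ) * 3 ≤ g * K := mul_le_mul_of_nonneg_left hK3 (Int.natCast_nonneg g)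
    omega
  by_contra hbig
  push Not at hbig
  nlinarith

/-- The column pair in the case of a normalizer of order `36`. -/
theorem small_of_four (n : ι → ℕ) {g : ℕ} (i₀ : ι) (hn : ∀ i, 0 < n i) (hn0 : n i₀ = 1)
    (hx0 : x i₀ = 1) (hy0 : y i₀ = 1) (hx : ∑ i, x i * x i = 9) (hy : ∑ i, y i * y i = 9)
    (hxy : ∑ i, x i * y i = 0) (hmod : ∀ i, (3 : ℤ) ∣ x i - y i)
    (hnine : ∀ i, (9 : ℤ) ∣ n i + 4 * x i + 4 * y i) (hnx : ∑ i, (n i : ℤ) * x i = 0)
    (hny : ∑ i, (n i : ℤ) * y i = 0)
    (heq : (g : ℝ) * ∑ i, ((x i : ℝ) * x i * y i) / n i = 162) : g ≤ 720 := by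
  obtain ⟨p, q, hpq, hp, hq, hr⟩ := exists_pair hx hy hxy hmod
  have hip : i₀ ≠ p := fun e => by subst e; rw [hx0, hy0] at hp; norm_num at hp
  have hiq : i₀ ≠ q := fun e => by subst e; rw [hx0, hy0] at hq; norm_num at hq
  set R := ∑ i ∈ Finset.univ \ {p, q}, x i * x i with hRdef
  have hy' : ∑ i ∈ Finset.univ \ {p, q}, y i * y i = R := Finset.sum_congr rfl fun i hi => by
    simp at hi; rw [hr i hi.1 hi.2]
  have hxy' : ∑ i ∈ Finset.univ \ {p, q}, x i * y i = R := Finset.sum_congr rfl fun i hi => by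
    simp at hi; rw [hr i hi.1 hi.2]
  rw [sum_split _ hpq, ← hRdef] at hx
  rw [sum_split _ hpq, hy'] at hy
  rw [sum_split _ hpq, hxy'] at hxy
  have hi0 : i₀ ∈ Finset.univ \ ({p, q} : Finset ι) := by simp [hip, hiq]
  have hR1 : 1 ≤ R := by
    rw [hRdef, ← Finset.add_sum_erase _ _ hi0, hx0]
    exact le_add_of_nonneg_right (Finset.sum_nonneg fun i _ => mul_self_nonneg _)
  have hvp := pair_values (by nlinarith [mul_self_nonneg (x q)]) (by nlinarith [mul_self_nonneg (y q)]) hp
  have hvq := pair_values (by nlinarith [mul_self_nonneg (x p)]) (by nlinarith [mul_self_nonneg (y p)]) hq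
  have hd : (n p : ℤ) * (x p - y p) + n q * (x q - y q) = 0 := by
    have e : ∑ i, (n i : ℤ) * (x i - y i) = 0 := by
      simp only [mul_sub, Finset.sum_sub_distrib, hnx, hny, sub_zero]
    rw [sum_split _ hpq, Finset.sum_eq_zero (fun i hi => by
      simp at hi; rw [hr i hi.1 hi.2]; ring), add_zero] at e
    exact e
  have h9p := hnine p
  have h9q := hnine q
  have hnp := hn p
  have hnq := hn q
  have key : R = 4 ∧ (-2 / 5 : ℝ) ≤
      ((x p : ℝ) * x p * y p) / n p + ((x q : ℝ) * x q * y q) / n q := by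
    have aux : ∀ b : ℕ, 5 ≤ b → (-2 / 5 : ℝ) ≤ -2 / (b : ℝ) := fun b hb => by
      have : (5 : ℝ) ≤ b := by exact_mod_cast hb
      rw [div_le_div_iff₀ (by norm_num) (by linarith)]
      linarith
    have aux' : ∀ b : ℕ, (-2 / 5 : ℝ) ≤ 2 / (b : ℝ) := fun b =>
      le_trans (by norm_num) (by positivity : (0 : ℝ) ≤ 2 / (b : ℝ))
    rcases hvp with ⟨a1, a2⟩ | ⟨a1, a2⟩ | ⟨a1, a2⟩ | ⟨a1, a2⟩ <;>
      rcases hvq with ⟨c1, c2⟩ | ⟨c1, c2⟩ | ⟨c1, c2⟩ | ⟨c1, c2⟩ <;>
      simp only [a1, a2, c1, c2] at hx hy hxy hd h9p h9q ⊢ <;>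
      first
        | omega
        | (refine ⟨by omega, ?_⟩
           have hb : n p = n q := by omega
           rw [← hb, ← add_div]
           norm_num
           first
             | (have := aux' (n p); norm_num at this; exact this)
             | (have := aux (n p) (by omega); norm_num at this; exact this))
  have hR : R = 4 := key.1
  have hrest : ∀ i ∈ (Finset.univ \ {p, q}).erase i₀,
      -((x i : ℝ) * x i) / 8 ≤ (x i : ℝ) * x i * y i / n i := by
    intro i hi
    have hi' := Finset.mem_of_mem_erase hi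
    have hle : x i * x i ≤ 3 := by
      have e := Finset.add_sum_erase (Finset.univ \ {p, q}) (fun i => x i * x i) hi0
      have e' := Finset.single_le_sum (f := fun i => x i * x i) (fun j _ => mul_self_nonneg (x j)) hi
      simp only [hx0, one_mul] at e
      omega
    have : x i ≤ 1 := by nlinarith
    have : -1 ≤ x i := by nlinarith
    simp at hi'
    have h9 := hnine i
    have hni := hn i
    rw [← hr i hi'.1 hi'.2] at h9 ⊢
    have hnR : (0 : ℝ) < n i := by exact_mod_cast hni
    interval_cases hxi : x i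
    · have h8 : (8 : ℝ) ≤ n i := by
        have : 8 ≤ n i := by omega
        exact_mod_cast this
      norm_num
      rw [neg_div]
      have := one_div_le_one_div_of_le (by norm_num) h8
      linarith
    · norm_num
    · norm_num
      exact le_trans (by norm_num) (inv_nonneg.mpr hnR.le)
  have hsum := Finset.sum_le_sum hrest
  have hsq : ∑ i ∈ (Finset.univ \ {p, q}).erase i₀, ((x i : ℝ) * x i) = 3 := by
    have e := Finset.add_sum_erase (Finset.univ \ {p, q}) (fun i => x i * x i) hi0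
    simp only [hx0, one_mul, ← hRdef, hR] at e
    have : ∑ i ∈ (Finset.univ \ {p, q}).erase i₀, x i * x i = 3 := by omega
    exact_mod_cast this
  rw [← Finset.sum_div, Finset.sum_neg_distrib, hsq] at hsum
  rw [sum_split _ hpq, ← Finset.add_sum_erase _ _ hi0, hx0, hy0, hn0] at heq
  have hgn : (0 : ℝ) ≤ g := Nat.cast_nonneg g
  have : (g : ℝ) * (9 / 40) ≤ 162 := by
    rw [← heq]
    refine mul_le_mul_of_nonneg_left ?_ hgn
    have := key.2
    norm_num
    linarith
  have : (g : ℝ) ≤ 720 := by linarith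
  exact_mod_cast this

end CfsgLib.NineSelfCent
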