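import Mathlib
import Cfsg.Agent.Lib.SelfCentThree.Basic

/-!
A self centralizing elementary abelian Sylow subgroup of order nine: fusion, and
triangles of elements of order three.
-/

set_option autoImplicit false
set_option linter.style.haveILetI false

namespace CfsgLib.NineSelfCent

universe u

variable {G : Type u} [Group G]

/-- Two elements of order three with product of order three: a commuting pair. -/
theorem triangle_pair {x y : G} (hy : y * y * y = 1)
    (hxy : (x * y) * (x * y) * (x * y) = 1) :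
    x * y * x = y⁻¹ * x⁻¹ * y⁻¹ := by
  have h : x * y * x * (y * x * y) = 1 := by rw [← hxy]; group
  rw [eq_inv_of_mul_eq_one_left h]; group

/-- The standing hypothesis. -/
structure Hyp (P : Sylow 3 G) (S : Subgroup G) : Prop where
  eq : S = P
  comm : ∀ a ∈ S, ∀ b ∈ S, a * b = b * a
  exp : ∀ a ∈ S, a ^ 3 = 1
  card : Nat.card S = 9
  cent : ∀ s ∈ S, s ≠ 1 → Subgroup.centralizer ({s} : Set G) = S

namespace Hyp

variable [Finite G] {P : Sylow 3 G} {S : Subgroup G}

theorem isPGroup (h : Hyp P S) : IsPGroup 3 S := h.eq ▸ P.2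

theorem exists_conj_mem (h : Hyp P S) {Q : Subgroup G} (hQ : IsPGroup 3 Q) :
    ∃ g : G, ∀ q ∈ Q, g * q * g⁻¹ ∈ S := by
  haveI : Fact (Nat.Prime 3) := ⟨Nat.prime_three⟩
  obtain ⟨R, hR⟩ := hQ.exists_le_sylow
  obtain ⟨g, hg⟩ := MulAction.exists_smul_eq G R P
  refine ⟨g, fun q hq => ?_⟩
  rw [h.eq, ← hg]
  exact ⟨q, hR hq, rfl⟩

theorem isPGroup_zpowers {x : G} (hx : x ^ 3 = 1) : IsPGroup 3 (Subgroup.zpowers x) := by
  rintro ⟨y, k, rfl⟩
  refine ⟨1, Subtype.ext ?_⟩
  show (x ^ k) ^ (3 ^ 1 : ℕ) = 1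
  rw [pow_one, ← zpow_natCast, zpow_comm, zpow_natCast, hx, one_zpow]

theorem exists_conj_elem (h : Hyp P S) {x : G} (hx : x ^ 3 = 1) : ∃ g : G, g * x * g⁻¹ ∈ S := by
  obtain ⟨g, hg⟩ := h.exists_conj_mem (isPGroup_zpowers hx)
  exact ⟨g, hg x (Subgroup.mem_zpowers x)⟩

/-- Everything centralizing an element of order three has exponent three. -/
theorem cube_of_comm (h : Hyp P S) {w c : G} (hw : w ^ 3 = 1) (hw1 : w ≠ 1) (hc : c * w = w * c) :
    c ^ 3 = 1 := by
  obtain ⟨g, hg⟩ := h.exists_conj_elem hw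
  have hm : g * c * g⁻¹ ∈ S := by
    rw [← h.cent _ hg (fun e => hw1 (conj_eq_one_iff.mp e)), Subgroup.mem_centralizer_singleton_iff]
    calc g * c * g⁻¹ * (g * w * g⁻¹) = g * (c * w) * g⁻¹ := by group
      _ = g * (w * c) * g⁻¹ := by rw [hc]
      _ = _ := by group
  have := h.exp _ hm
  rw [conj_pow] at this
  exact conj_eq_one_iff.mp this

theorem comm_of_isPGroup (h : Hyp P S) {Q : Subgroup G} (hQ : IsPGroup 3 Q) {a b : G} (ha : a ∈ Q)
    (hb : b ∈ Q) : a * b = b * a := by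
  obtain ⟨g, hg⟩ := h.exists_conj_mem hQ
  have e := h.comm _ (hg a ha) _ (hg b hb)
  simp only [conj_mul] at e
  exact mul_left_cancel (mul_right_cancel e)

/-- A triangle either commutes, or its three corners are conjugate. -/
theorem triangle (h : Hyp P S) {x y : G} (hx : x ^ 3 = 1) (hx1 : x ≠ 1) (hy : y ^ 3 = 1)
    (hxy : (x * y) ^ 3 = 1) : x * y = y * x ∨ (IsConj x y ∧ IsConj x (x * y)⁻¹) := by
  classical
  haveI : Fact (Nat.Prime 3) := ⟨Nat.prime_three⟩
  have hx' : x * x * x = 1 := by rw [← hx, pow_succ, pow_two]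
  have hy' : y * y * y = 1 := by rw [← hy, pow_succ, pow_two]
  have hxy' : (x * y) * (x * y) * (x * y) = 1 := by rw [← hxy, pow_succ (x * y), pow_two]
  have hr := triangle_pair hy' hxy'
  have hxi : x⁻¹ = x * x := inv_eq_of_mul_eq_one_left hx'
  have hyi : y⁻¹ = y * y := inv_eq_of_mul_eq_one_left hy'
  set p := x * y⁻¹ with hp
  set q := y⁻¹ * x with hq
  have hyy : y⁻¹ * y⁻¹ = y := by rw [← mul_inv_rev, ← hyi, inv_inv]
  have hpq : p * q = x * y * x := by
    calc p * q = x * (y⁻¹ * y⁻¹) * x := by rw [hp, hq]; group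
      _ = _ := by rw [hyy]
  have hqp : q * p = y⁻¹ * x⁻¹ * y⁻¹ := by
    calc q * p = y⁻¹ * (x * x) * y⁻¹ := by rw [hp, hq]; group
      _ = _ := by rw [← hxi]
  have hc : p * q = q * p := by rw [hpq, hqp, hr]
  let A := Subgroup.closure ({p, q} : Set G)
  have hpA : p ∈ A := Subgroup.subset_closure (by simp)
  have hqA : q ∈ A := Subgroup.subset_closure (by simp)
  have hAc : ∀ a ∈ A, ∀ b ∈ A, a * b = b * a := by
    have hm : IsMulCommutative A := Subgroup.isMulCommutative_closure (by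
      simp only [Set.mem_insert_iff, Set.mem_singleton_iff]
      rintro a (rfl | rfl) b (rfl | rfl) <;> first | rfl | exact hc | exact hc.symm)
    exact fun a ha b hb => congrArg Subtype.val (hm.is_comm.comm ⟨a, ha⟩ ⟨b, hb⟩)
  have hxA' : x⁻¹ ∈ Subgroup.normalizer (A : Set G) := by
    rw [Subgroup.mem_normalizer_iff_map_conj_eq]
    refine Subgroup.eq_of_le_of_card_ge ?_ (le_of_eq (Nat.card_congr
      (Subgroup.equivMapOfInjective _ _ (MulAut.conj x⁻¹).injective).toEquiv))
    show Subgroup.map (MulAut.conj x⁻¹).toMonoidHom A ≤ A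
    rw [MonoidHom.map_closure, Subgroup.closure_le]
    rintro _ ⟨a, ha, rfl⟩
    simp only [Set.mem_insert_iff, Set.mem_singleton_iff] at ha
    simp only [SetLike.mem_coe, MulEquiv.coe_toMonoidHom, MulAut.conj_apply, inv_inv]
    rcases ha with rfl | rfl
    · rw [show x⁻¹ * p * x = q by rw [hp, hq]; group]; exact hqA
    · have e : x⁻¹ * q * x = (p * q)⁻¹ := by
        rw [hpq, hq]
        calc x⁻¹ * (y⁻¹ * x) * x = x⁻¹ * y⁻¹ * (x * x) := by group
          _ = x⁻¹ * y⁻¹ * x⁻¹ := by rw [← hxi]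
          _ = _ := by group
      rw [e]; exact inv_mem (mul_mem hpA hqA)
  have hxA : x ∈ Subgroup.normalizer (A : Set G) := by simpa using inv_mem hxA'
  by_cases h3 : 3 ∣ Nat.card A
  · left
    obtain ⟨⟨w, hw⟩, hw3⟩ := exists_prime_orderOf_dvd_card' (G := A) 3 h3
    rw [← Subgroup.orderOf_coe] at hw3
    change orderOf w = 3 at hw3
    have hw3' : w ^ 3 = 1 := by rw [← hw3]; exact pow_orderOf_eq_one w
    have hw1 : w ≠ 1 := fun e => by rw [e, orderOf_one] at hw3; norm_num at hw3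
    have hA3 : IsPGroup 3 A := fun a => ⟨1, Subtype.ext (by
      simpa using h.cube_of_comm hw3' hw1 (hAc _ a.2 w hw))⟩
    have hQ : IsPGroup 3 (Subgroup.zpowers x ⊔ A : Subgroup G) :=
      (isPGroup_zpowers hx).to_sup_of_normal_right' hA3 (Subgroup.zpowers_le.mpr hxA)
    have e := h.comm_of_isPGroup hQ (Subgroup.mem_sup_left (Subgroup.mem_zpowers x))
      (Subgroup.mem_sup_right hpA)
    rw [hp, mul_assoc] at e
    have e' : x * y⁻¹ = y⁻¹ * x := mul_left_cancel e
    exact ((Commute.inv_right_iff).mp (show Commute x y⁻¹ from e')).eq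
  · right
    have hxmem : ∀ e ∈ A, e * (x * e⁻¹ * x⁻¹) ∈ A := fun e he =>
      mul_mem he ((Subgroup.mem_normalizer_iff.mp hxA _).mp (inv_mem he))
    let f : A → A := fun e => ⟨(e : G) * (x * (e : G)⁻¹ * x⁻¹), hxmem _ e.2⟩
    have hinj : Function.Injective f := by
      intro a b hab
      have hab' : (a : G) * (x * (a : G)⁻¹ * x⁻¹) = (b : G) * (x * (b : G)⁻¹ * x⁻¹) :=
        congrArg Subtype.val hab
      have h1 : ((b : G)⁻¹ * a) * x = x * ((b : G)⁻¹ * a) := by
        calc ((b : G)⁻¹ * a) * x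
            = (b : G)⁻¹ * ((a : G) * (x * (a : G)⁻¹ * x⁻¹)) * (x * a) := by group
          _ = (b : G)⁻¹ * ((b : G) * (x * (b : G)⁻¹ * x⁻¹)) * (x * a) := by rw [hab']
          _ = _ := by group
      have h3' : (b⁻¹ * a) ^ 3 = 1 := Subtype.ext (by simpa using h.cube_of_comm hx hx1 h1)
      have h1' : orderOf (b⁻¹ * a) = 1 := by
        rcases (Nat.dvd_prime Nat.prime_three).mp (orderOf_dvd_of_pow_eq_one h3') with e | e
        · exact e
        · exact absurd (e ▸ orderOf_dvd_natCard (b⁻¹ * a)) h3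
      exact (inv_mul_eq_one.mp (orderOf_eq_one_iff.mp h1')).symm
    have hsurj := (Finite.injective_iff_surjective (f := f)).mp hinj
    constructor
    · obtain ⟨e, he⟩ := hsurj ⟨p⁻¹, inv_mem hpA⟩
      have he' : (e : G) * (x * (e : G)⁻¹ * x⁻¹) = p⁻¹ := congrArg Subtype.val he
      refine isConj_iff.mpr ⟨e, ?_⟩
      calc (e : G) * x * (e : G)⁻¹ = (e : G) * (x * (e : G)⁻¹ * x⁻¹) * x := by group
        _ = y := by rw [he', hp]; group
    · obtain ⟨e, he⟩ := hsurj ⟨q, hqA⟩
      have he' : (e : G) * (x * (e : G)⁻¹ * x⁻¹) = q := congrArg Subtype.val he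
      refine isConj_iff.mpr ⟨e, ?_⟩
      calc (e : G) * x * (e : G)⁻¹ = (e : G) * (x * (e : G)⁻¹ * x⁻¹) * x := by group
        _ = y⁻¹ * (x * x) := by rw [he', hq]; group
        _ = _ := by rw [← hxi]; group

/-- The conjugates of `s` in `S`. -/
theorem card_fusion (h : Hyp P S) {s : G} (hs : s ∈ S) (hs1 : s ≠ 1) :
    Nat.card {u : S // IsConj s (u : G)} * 9 = Nat.card (Subgroup.normalizer (S : Set G)) := by
  classical
  let N := Subgroup.normalizer (S : Set G)
  letI : MulAction N S := MulAction.compHom S (Subgroup.normalizerMonoidHom S)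
  haveI : Fintype N := Fintype.ofFinite N
  haveI : Fintype (MulAction.orbit N (⟨s, hs⟩ : S)) := Fintype.ofFinite _
  haveI : Fintype (MulAction.stabilizer N (⟨s, hs⟩ : S)) := Fintype.ofFinite _
  have key := MulAction.card_orbit_mul_card_stabilizer_eq_card_group N (⟨s, hs⟩ : S)
  simp only [← Nat.card_eq_fintype_card] at key
  rw [← key]
  have hact : ∀ (g : N) (u : S), ((g • u : S) : G) = g * u * (g : G)⁻¹ := fun g u => rfl
  have hmem : ∀ u : S, u ∈ MulAction.orbit N (⟨s, hs⟩ : S) ↔ IsConj s (u : G) := by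
    intro u
    constructor
    · rintro ⟨g, rfl⟩
      exact isConj_iff.mpr ⟨g, (hact g ⟨s, hs⟩).symm⟩
    · intro hu
      obtain ⟨g, hg⟩ := isConj_iff.mp hu
      have hu1 : (u : G) ≠ 1 := fun e => hs1 (conj_eq_one_iff.mp (hg.trans e))
      have hgN : g ∈ N := by
        rw [Subgroup.mem_normalizer_iff]
        intro k
        have e1 : k ∈ S ↔ k * s = s * k := by
          rw [← h.cent s hs hs1, Subgroup.mem_centralizer_singleton_iff]
        have e2 : g * k * g⁻¹ ∈ S ↔ g * k * g⁻¹ * u = u * (g * k * g⁻¹) := by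
          exact ((SetLike.ext_iff.mp (h.cent _ u.2 hu1)) _).symm.trans
            Subgroup.mem_centralizer_singleton_iff
        rw [e1, e2, ← hg]
        simp only [conj_mul, mul_left_inj, mul_right_inj]
      exact ⟨⟨g, hgN⟩, Subtype.ext ((hact _ _).trans hg)⟩
  have hstab : Nat.card (MulAction.stabilizer N (⟨s, hs⟩ : S)) = 9 := by
    rw [← h.card]
    refine Nat.card_congr ⟨fun g => ⟨(g : N), ?_⟩, fun k => ⟨⟨k, Subgroup.le_normalizer k.2⟩, ?_⟩,
      fun g => rfl, fun k => rfl⟩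
    · refine (SetLike.ext_iff.mp (h.cent s hs hs1) _).mp ?_
      rw [Subgroup.mem_centralizer_singleton_iff]
      exact mul_inv_eq_iff_eq_mul.mp ((hact g _).symm.trans (congrArg Subtype.val g.2))
    · refine Subtype.ext ((hact _ _).trans ?_)
      rw [h.comm _ k.2 _ hs, mul_inv_cancel_right]
  rw [hstab]
  congr 1
  exact Nat.card_congr (Equiv.subtypeEquivRight fun u => (hmem u).symm)

end Hyp

end CfsgLib.NineSelfCent
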