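import Mathlib
import Cfsg.Agent.Lib.NineSelfCent.Basic
import Cfsg.Agent.Lib.Char.Counting
import Cfsg.Agent.Lib.Char.Virtual
import Cfsg.Agent.Lib.Char.Galois
import Cfsg.Agent.Lib.Char.Central

/-!
Character columns of the elements of order three.
-/

set_option autoImplicit false
set_option linter.style.haveILetI false

open scoped BigOperators ComplexConjugate

namespace CfsgLib.NineSelfCent

open Cfsg CfsgLib.Char

universe u

variable {G : Type u} [Group G] [Finite G] {P : Sylow 3 G} {S : Subgroup G}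

theorem exists_sum_subgroup (χ : IrrCharacter G) (K : Subgroup G) [Fintype K] :
    ∃ m : ℤ, ∑ k : K, (χ : G → ℂ) k = (Nat.card K : ℂ) * m := by
  obtain ⟨m, hm⟩ := exists_int_classInner (isGeneralized_restrict K (isGeneralized_of_isIrr χ.2))
    (isGeneralized_one (G := K))
  refine ⟨m, ?_⟩
  rw [← hm, classInner]
  simp only [map_one, mul_one]
  rw [mul_inv_cancel_left₀ (Nat.cast_ne_zero.mpr Nat.card_pos.ne')]

theorem exists_degrees : ∃ n : IrrCharacter G → ℕ,
    (∀ χ, 0 < n χ) ∧ (∀ χ : IrrCharacter G, (χ : G → ℂ) 1 = n χ) ∧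
      n ⟨fun _ => 1, isIrrCharacter_one⟩ = 1 := by
  choose n hn hn' using fun χ : IrrCharacter G => exists_nat_degree_irr χ.2
  refine ⟨n, hn, hn', ?_⟩
  have : (1 : ℂ) = n ⟨fun _ => 1, isIrrCharacter_one⟩ := hn' ⟨fun _ => 1, isIrrCharacter_one⟩
  exact_mod_cast this.symm

theorem orderOf_eq_three {s : G} (hs : s ^ 3 = 1) (hs1 : s ≠ 1) : orderOf s = 3 := by
  rcases (Nat.dvd_prime Nat.prime_three).mp (orderOf_dvd_of_pow_eq_one hs) with e | e
  · exact absurd (orderOf_eq_one_iff.mp e) hs1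
  · exact e

/-- A column at a real element of order three. -/
structure Col (n : IrrCharacter G → ℕ) (s : G) (x : IrrCharacter G → ℤ) : Prop where
  val : ∀ χ : IrrCharacter G, (χ : G → ℂ) s = x χ
  one : x ⟨fun _ => 1, isIrrCharacter_one⟩ = 1
  mod : ∀ χ, (3 : ℤ) ∣ n χ - x χ
  orth : ∑ χ, (n χ : ℤ) * x χ = 0

theorem exists_col (n : IrrCharacter G → ℕ) (hn : ∀ χ : IrrCharacter G, (χ : G → ℂ) 1 = n χ)
    {s : G} (hs : s ^ 3 = 1) (hs1 : s ≠ 1) (hinv : IsConj s s⁻¹) : ∃ x, Col n s x := by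
  classical
  haveI : Fintype G := Fintype.ofFinite G
  have ho := orderOf_eq_three hs hs1
  have h3 : 3 ∣ Nat.card G := ho ▸ orderOf_dvd_natCard s
  have hsq : s ^ 2 = s⁻¹ := eq_inv_of_mul_eq_one_left (by rw [← pow_succ, hs])
  have hint : ∀ χ : IrrCharacter G, ∃ a : ℤ, (χ : G → ℂ) s = a := fun χ => by
    have hc := isCharacter_of_isIrr χ.2
    obtain ⟨q, hq⟩ := (rat_value_iff hc s).mpr fun k hk => by
      have h0 : k % 3 ≠ 0 := fun e => by
        have hd := Nat.dvd_gcd (Nat.dvd_of_mod_eq_zero e) h3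
        rw [hk] at hd
        norm_num at hd
      rw [← pow_mod_orderOf, ho]
      rcases (show k % 3 = 1 ∨ k % 3 = 2 by omega) with e | e <;> rw [e]
      · rw [pow_one]
      · rw [hsq]
        exact (eq_of_isConj (isClassFunction_of_isCharacter hc) hinv).symm
    obtain ⟨a, ha⟩ := exists_int_of_isIntegral_rat (q := q) (hq ▸ isIntegral_value hc s)
    exact ⟨a, by rw [hq, ha]; simp⟩
  choose x hx using hint
  refine ⟨x, hx, ?_, fun χ => ?_, ?_⟩
  · have : (1 : ℂ) = x ⟨fun _ => 1, isIrrCharacter_one⟩ := hx ⟨fun _ => 1, isIrrCharacter_one⟩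
    exact_mod_cast this.symm
  · haveI : Fintype (Subgroup.zpowers s) := Fintype.ofFinite _
    obtain ⟨m, hm⟩ := exists_sum_subgroup χ (Subgroup.zpowers s)
    rw [Nat.card_zpowers, ho, ← Equiv.sum_comp (finEquivZPowers (isOfFinOrder_of_finite s))] at hm
    simp only [finEquivZPowers_apply] at hm
    rw [Fin.sum_univ_eq_sum_range (fun i => (χ : G → ℂ) (s ^ i)), ho] at hm
    simp only [Finset.sum_range_succ, Finset.sum_range_zero, zero_add, pow_zero, pow_one] at hm
    rw [hsq, ← eq_of_isConj (isClassFunction_of_isCharacter (isCharacter_of_isIrr χ.2)) hinv,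
      hn χ, hx χ] at hm
    have : (n χ : ℤ) + x χ + x χ = 3 * m := by exact_mod_cast hm
    exact ⟨m - x χ, by omega⟩
  · have e := column_orthogonality (1 : G) s
    rw [if_neg (fun hc : IsConj (1 : G) s => hs1 (isConj_one_right.mp hc))] at e
    simp only [hn, hx, map_intCast] at e
    exact_mod_cast e

theorem Hyp.col_inner (h : Hyp P S) {n : IrrCharacter G → ℕ} {s t : G} {x y : IrrCharacter G → ℤ}
    (ht : t ∈ S) (ht1 : t ≠ 1) (hx : Col n s x) (hy : Col n t y) :
    ∑ χ, x χ * y χ = open Classical in if IsConj s t then 9 else 0 := by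
  classical
  have e := column_orthogonality s t
  simp only [hx.val, hy.val, map_intCast, h.cent t ht ht1, h.card] at e
  split_ifs at e ⊢ <;> exact_mod_cast e

theorem sum_sq_nat {n : IrrCharacter G → ℕ} (hn : ∀ χ : IrrCharacter G, (χ : G → ℂ) 1 = n χ) :
    ∑ χ, n χ * n χ = Nat.card G := by
  have e := sum_sq_degree (G := G)
  simp only [hn, sq] at e
  exact_mod_cast e

/-- Solutions of `x y = w` in classes of `S`, not all three equal, lie in `S`. -/
theorem Hyp.mem_of_count (h : Hyp P S) {a b w x y : G} (ha : a ∈ S) (ha1 : a ≠ 1) (hb : b ∈ S)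
    (hw : w ∈ S) (hw1 : w ≠ 1) (hinv : IsConj w w⁻¹) (hne : ¬ (IsConj a b ∧ IsConj a w))
    (hx : IsConj a x) (hy : IsConj b y) (he : x * y = w) : x ∈ S ∧ y ∈ S := by
  have hcube : ∀ {c z : G}, c ∈ S → IsConj c z → z ^ 3 = 1 := fun {c z} hc hcz => by
    obtain ⟨g, rfl⟩ := isConj_iff.mp hcz
    rw [conj_pow, h.exp c hc, mul_one, mul_inv_cancel]
  have hx1 : x ≠ 1 := fun e => ha1 (isConj_one_left.mp (e ▸ hx))
  rcases h.triangle (hcube ha hx) hx1 (hcube hb hy) (he ▸ h.exp w hw) with hc | ⟨h1, h2⟩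
  · have hxw : x * w = w * x := by
      rw [← he]
      calc x * (x * y) = x * (y * x) := by rw [hc]
        _ = _ := by group
    have hxS : x ∈ S := by
      rw [← h.cent w hw hw1, Subgroup.mem_centralizer_singleton_iff]; exact hxw
    refine ⟨hxS, ?_⟩
    have : y = x⁻¹ * w := by rw [← he]; group
    rw [this]; exact mul_mem (inv_mem hxS) hw
  · exact absurd ⟨hx.trans (h1.trans hy.symm), (hx.trans (he ▸ h2)).trans hinv.symm⟩ hne

/-- The class equation computed inside `S`. -/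
theorem Hyp.structure_eq (h : Hyp P S) {n : IrrCharacter G → ℕ}
    (hn : ∀ χ : IrrCharacter G, (χ : G → ℂ) 1 = n χ) {a b w : G} {x y z : IrrCharacter G → ℤ}
    (ha : a ∈ S) (ha1 : a ≠ 1) (hb : b ∈ S) (hb1 : b ≠ 1) (hw : w ∈ S) (hw1 : w ≠ 1)
    (hinv : IsConj w w⁻¹) (hne : ¬ (IsConj a b ∧ IsConj a w))
    (hx : Col n a x) (hy : Col n b y) (hz : Col n w z) :
    (Nat.card G : ℝ) * ∑ χ, ((x χ : ℝ) * y χ * z χ) / n χ =
      81 * (Nat.card {p : S × S // IsConj a (p.1 : G) ∧ IsConj b (p.2 : G) ∧ p.1 * p.2 = (⟨w, hw⟩ : S)} : ℝ) := by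
  classical
  haveI : Fintype G := Fintype.ofFinite G
  have hC : Nat.card {p : S × S // IsConj a (p.1 : G) ∧ IsConj b (p.2 : G) ∧ p.1 * p.2 = (⟨w, hw⟩ : S)} =
      Nat.card {p : G × G // IsConj a p.1 ∧ IsConj b p.2 ∧ p.1 * p.2 = w} := by
    refine Nat.card_congr ⟨fun p => ⟨(p.1.1, p.1.2), p.2.1, p.2.2.1, congrArg Subtype.val p.2.2.2⟩,
      fun p => ⟨(⟨p.1.1, (h.mem_of_count ha ha1 hb hw hw1 hinv hne p.2.1 p.2.2.1 p.2.2.2).1⟩,
        ⟨p.1.2, (h.mem_of_count ha ha1 hb hw hw1 hinv hne p.2.1 p.2.2.1 p.2.2.2).2⟩),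
        p.2.1, p.2.2.1, Subtype.ext p.2.2.2⟩, fun p => rfl, fun p => rfl⟩
  rw [hC]
  have e := class_mult (G := G) a b w
  simp only [hx.val, hy.val, hz.val, hn, map_intCast] at e
  have hia : 9 * (Subgroup.centralizer ({a} : Set G)).index = Nat.card G := by
    rw [h.cent a ha ha1, ← h.card, Subgroup.card_mul_index]
  have hib : 9 * (Subgroup.centralizer ({b} : Set G)).index = Nat.card G := by
    rw [h.cent b hb hb1, ← h.card, Subgroup.card_mul_index]
  set ia := (Subgroup.centralizer ({a} : Set G)).index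
  set ib := (Subgroup.centralizer ({b} : Set G)).index
  have eR : (Nat.card {p : G × G // IsConj a p.1 ∧ IsConj b p.2 ∧ p.1 * p.2 = w} : ℝ) =
      (ia : ℝ) * ib / (Nat.card G : ℝ) * ∑ χ, ((x χ : ℝ) * y χ * z χ) / n χ := by
    apply Complex.ofReal_injective
    push_cast
    exact e
  have hG : (0 : ℝ) < Nat.card G := by exact_mod_cast Nat.card_pos
  have h1 : (9 : ℝ) * ia = Nat.card G := by exact_mod_cast hia
  have h2 : (9 : ℝ) * ib = Nat.card G := by exact_mod_cast hib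
  rw [eR]
  field_simp
  linear_combination (-(∑ χ, ((x χ : ℝ) * y χ * z χ) / n χ)) * (9 * (ib : ℝ) * h1 + (Nat.card G : ℝ) * h2)

end CfsgLib.NineSelfCent
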