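import Mathlib
import Cfsg.Agent.Lib.NineSelfCent.Values
import Cfsg.Agent.Lib.NineSelfCent.Arith
import Cfsg.Agent.S0496
import Cfsg.Agent.S0497

/-!
A simple group with self centralizing elementary abelian Sylow `3`-subgroup of order nine and
more than one class of elements of order three is `A₆`.
-/

set_option autoImplicit false
set_option linter.style.haveILetI false

open scoped BigOperators

namespace CfsgLib.NineSelfCent

open Cfsg CfsgLib.Char

attribute [-simp] isConj_iff

universe u

section Plane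

variable {A : Type*} [Group A] (hc : ∀ a b : A, a * b = b * a) (h3 : ∀ a : A, a ^ 3 = 1)

include h3 in
theorem inv_mul_inv (a : A) : a⁻¹ * a⁻¹ = a := by
  have : a * a * a = 1 := by rw [← h3 a, pow_succ, pow_two]
  rw [← mul_inv_rev, inv_eq_iff_mul_eq_one, this]

include h3 in
theorem inv_ne_self {a : A} (ha : a ≠ 1) : a⁻¹ ≠ a := fun e => ha (by
  have := inv_mul_inv h3 a
  rw [e] at this
  exact mul_eq_left.mp this)

include hc h3 in
theorem mul_not_mem {a b : A} (ha : a ≠ 1) (hb : b ≠ 1) (h1 : b ≠ a) (h2 : b ≠ a⁻¹) :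
    a * b ≠ 1 ∧ a * b ≠ a ∧ a * b ≠ a⁻¹ ∧ a * b ≠ b ∧ a * b ≠ b⁻¹ := by
  refine ⟨fun e => h2 (eq_inv_of_mul_eq_one_right e), fun e => hb (mul_eq_left.mp e), fun e => h1 ?_,
    fun e => ha (mul_eq_right.mp e), fun e => h1.symm ?_⟩
  · rw [← inv_mul_inv h3 a]; exact eq_inv_mul_of_mul_eq e
  · rw [← inv_mul_inv h3 b]; exact eq_mul_inv_of_mul_eq e

include hc h3 in
/-- The solutions of `x y = a b` in the lines through `a` and `b`. -/
theorem solve {a b : A} (ha : a ≠ 1) (hb : b ≠ 1) (h1 : b ≠ a) (h2 : b ≠ a⁻¹) (x y : A)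
    (hx : x = a ∨ x = a⁻¹ ∨ x = b ∨ x = b⁻¹) (hy : y = a ∨ y = a⁻¹ ∨ y = b ∨ y = b⁻¹)
    (he : x * y = a * b) : (x = a ∧ y = b) ∨ (x = b ∧ y = a) := by
  obtain ⟨-, m1, m2, m3, m4⟩ := mul_not_mem hc h3 (inv_ne_one.mpr ha) hb h2 (by rwa [inv_inv])
  obtain ⟨-, k1, k2, k3, k4⟩ := mul_not_mem hc h3 ha (inv_ne_one.mpr hb)
    (fun e => h2 (by rw [← e, inv_inv])) (fun e => h1 (inv_injective e))
  rw [inv_inv] at m2 k4
  rcases hx with rfl | rfl | rfl | rfl
  · exact Or.inl ⟨rfl, mul_left_cancel he⟩
  · exfalso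
    have e : y = a⁻¹ * b := by
      calc y = a * (a⁻¹ * y) := by group
        _ = a * a * b := by rw [he, mul_assoc]
        _ = a⁻¹ * b := by rw [← inv_mul_inv h3 a⁻¹, inv_inv]
    rcases hy with e' | e' | e' | e' <;> rw [e] at e'
    · exact m2 e'
    · exact m1 e'
    · exact m3 e'
    · exact m4 e'
  · refine Or.inr ⟨rfl, ?_⟩
    rw [hc a x] at he
    exact mul_left_cancel he
  · exfalso
    have e : y = a * b⁻¹ := by
      calc y = b * (b⁻¹ * y) := by group
        _ = a * (b * b) := by rw [he, ← mul_assoc, hc b a, mul_assoc]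
        _ = a * b⁻¹ := by rw [← inv_mul_inv h3 b⁻¹, inv_inv]
    rcases hy with e' | e' | e' | e' <;> rw [e] at e'
    · exact k1 e'
    · exact k2 e'
    · exact k4 e'
    · exact k3 e'

end Plane

variable {G : Type u} [Group G] [Finite G] {P : Sylow 3 G} {S : Subgroup G}

theorem Hyp.hc (h : Hyp P S) (a b : S) : a * b = b * a := Subtype.ext (h.comm _ a.2 _ b.2)

theorem Hyp.h3 (h : Hyp P S) (a : S) : a ^ 3 = 1 := Subtype.ext (h.exp _ a.2)

theorem coe_ne_one {a : S} (ha : a ≠ 1) : (a : G) ≠ 1 := fun e => ha (Subtype.ext e)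

theorem Hyp.orbit_eq (h : Hyp P S) {m : ℕ} (hN : Nat.card (Subgroup.normalizer (S : Set G)) = 9 * m)
    {a : S} (ha : a ≠ 1) (T : Finset S) (hT : ∀ u ∈ T, IsConj (a : G) (u : G)) (hcard : T.card = m)
    (u : S) : IsConj (a : G) (u : G) ↔ u ∈ T := by
  classical
  haveI : Fintype S := Fintype.ofFinite S
  have e := h.card_fusion a.2 (coe_ne_one ha)
  rw [hN, Nat.card_eq_fintype_card, Fintype.card_subtype] at e
  have hle : T ⊆ Finset.univ.filter fun u : S => IsConj (a : G) (u : G) := fun u hu => by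
    simp [hT u hu]
  have := Finset.eq_of_subset_of_card_le hle (by omega)
  rw [this]; simp

theorem Hyp.dvd_eight (h : Hyp P S) {m : ℕ}
    (hN : Nat.card (Subgroup.normalizer (S : Set G)) = 9 * m) : m ∣ 8 := by
  classical
  haveI : Fintype S := Fintype.ofFinite S
  haveI : Fintype (ConjClasses G) := Fintype.ofFinite _
  let X := (Finset.univ : Finset S).erase 1
  have hX : X.card = 8 := by
    simp [X, ← Nat.card_eq_fintype_card, h.card]
  rw [← hX, Finset.card_eq_sum_card_image (fun u : S => ConjClasses.mk (u : G)) X]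
  refine Finset.dvd_sum fun c hc => ?_
  obtain ⟨a, ha, rfl⟩ := Finset.mem_image.mp hc
  have ha1 : a ≠ 1 := Finset.ne_of_mem_erase ha
  have e := h.card_fusion a.2 (coe_ne_one ha1)
  rw [hN, Nat.card_eq_fintype_card, Fintype.card_subtype] at e
  have : X.filter (fun u : S => ConjClasses.mk (u : G) = ConjClasses.mk (a : G)) =
      Finset.univ.filter fun u : S => IsConj (a : G) (u : G) := by
    ext u
    simp only [X, Finset.mem_filter, Finset.mem_erase, Finset.mem_univ, and_true, true_and,
      ConjClasses.mk_eq_mk_iff_isConj]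
    exact ⟨fun hu => hu.2.symm, fun hu => ⟨fun e' => coe_ne_one ha1
      (isConj_one_left.mp (by simpa [e'] using hu)), hu.symm⟩⟩
  rw [this]
  exact ⟨1, by omega⟩

theorem Hyp.isConj_inv (h : Hyp P S) (h2 : 2 ∣ Nat.card (Subgroup.normalizer (S : Set G)))
    {s : G} (hs : s ∈ S) : IsConj s s⁻¹ := by
  haveI : Fact (Nat.Prime 2) := ⟨Nat.prime_two⟩
  obtain ⟨⟨t, htN⟩, ht⟩ :=
    exists_prime_orderOf_dvd_card' (G := Subgroup.normalizer (S : Set G)) 2 h2
  rw [← Subgroup.orderOf_coe] at ht
  change orderOf t = 2 at ht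
  have htt : t * t = 1 := by
    rw [← pow_two, ← ht]; exact pow_orderOf_eq_one t
  have hti : t⁻¹ = t := inv_eq_of_mul_eq_one_left htt
  have hw : t * s * t⁻¹ ∈ S := (Subgroup.mem_normalizer_iff.mp htN s).mp hs
  refine isConj_iff.mpr ⟨t, eq_inv_of_mul_eq_one_right ?_⟩
  by_contra hne
  have hwS : s * (t * s * t⁻¹) ∈ S := mul_mem hs hw
  have hc : t * (s * (t * s * t⁻¹)) = s * (t * s * t⁻¹) * t := by
    calc t * (s * (t * s * t⁻¹)) = (t * s * t⁻¹) * (t * t * s * (t * t)⁻¹) * t := by group
      _ = (t * s * t⁻¹) * s * t := by rw [htt]; group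
      _ = _ := by rw [h.comm _ hw _ hs]
  have htS : t ∈ S := by
    rw [← h.cent _ hwS hne, Subgroup.mem_centralizer_singleton_iff]; exact hc
  have := orderOf_dvd_of_pow_eq_one (h.exp t htS)
  rw [ht] at this
  norm_num at this

theorem Hyp.not_trivial [IsSimpleGroup G] (h : Hyp P S) :
    Nat.card (Subgroup.normalizer (S : Set G)) ≠ 9 := by
  intro hN
  haveI : Fact (Nat.Prime 3) := ⟨Nat.prime_three⟩
  have heq : S = Subgroup.normalizer (S : Set G) :=
    Subgroup.eq_of_le_of_card_ge Subgroup.le_normalizer (by rw [hN, h.card])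
  have hP : Subgroup.normalizer ((P : Subgroup G) : Set G) ≤
      Subgroup.centralizer ((P : Subgroup G) : Set G) := by
    rw [← h.eq, ← heq]
    exact fun a ha b hb => h.comm b hb a ha
  have hk := MonoidHom.ker_transferSylow_isComplement' P hP
  rcases (MonoidHom.normal_ker (MonoidHom.transferSylow P hP)).eq_bot_or_eq_top with e | e
  · have hcard := hk.card_mul
    rw [e, Subgroup.card_bot, one_mul, ← h.eq, h.card] at hcard
    have hcomm : ∀ a b : G, a * b = b * a := fun a b => by
      have : S = ⊤ := Subgroup.eq_top_of_card_eq S (by rw [h.card, hcard])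
      exact h.comm a (this ▸ Subgroup.mem_top a) b (this ▸ Subgroup.mem_top b)
    letI : CommGroup G := { (inferInstance : Group G) with mul_comm := hcomm }
    have hp := IsSimpleGroup.prime_card (α := G)
    rw [← hcard] at hp
    norm_num at hp
  · have := MonoidHom.not_dvd_card_ker_transferSylow P hP
    rw [e, Subgroup.card_top] at this
    exact this ((show 3 ∣ Nat.card S by rw [h.card]; norm_num).trans (Subgroup.card_subgroup_dvd_card S))

theorem Hyp.order_two (h : Hyp P S) (hN : Nat.card (Subgroup.normalizer (S : Set G)) = 9 * 2) :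
    Nat.card G ≤ 364 := by
  classical
  haveI : Fintype G := Fintype.ofFinite G
  haveI : Fintype S := Fintype.ofFinite S
  haveI : Nontrivial S := Finite.one_lt_card_iff_nontrivial.mp (by rw [h.card]; norm_num)
  have hinv : ∀ s : S, IsConj (s : G) (s : G)⁻¹ := fun s => h.isConj_inv (by omega) s.2
  obtain ⟨a, ha⟩ := exists_ne (1 : S)
  obtain ⟨b, -, hb⟩ := Finset.exists_mem_notMem_of_card_lt_card (s := ({1, a, a⁻¹} : Finset S))
    (t := Finset.univ) (by
      refine lt_of_le_of_lt Finset.card_le_three ?_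
      rw [Finset.card_univ, ← Nat.card_eq_fintype_card, h.card]; norm_num)
  simp only [Finset.mem_insert, Finset.mem_singleton, not_or] at hb
  obtain ⟨hb1, hba, hba'⟩ := hb
  have key : ∀ {s : S}, s ≠ 1 → ∀ u : S, IsConj (s : G) (u : G) ↔ u = s ∨ u = s⁻¹ := fun {s} hs u => by
    rw [h.orbit_eq hN hs {s, s⁻¹} (by
      intro v hv
      simp only [Finset.mem_insert, Finset.mem_singleton] at hv
      rcases hv with rfl | rfl
      · rfl
      · exact hinv s) (Finset.card_pair (inv_ne_self h.h3 hs).symm)]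
    simp
  obtain ⟨hab1, haba, haba', habb, habb'⟩ := mul_not_mem h.hc h.h3 ha hb1 hba hba'
  obtain ⟨n, hn, hn', -⟩ := exists_degrees (G := G)
  obtain ⟨x, hx⟩ := exists_col n hn' (h.exp _ a.2) (coe_ne_one ha) (hinv a)
  obtain ⟨z, hz⟩ := exists_col n hn' (h.exp _ b.2) (coe_ne_one hb1) (hinv b)
  obtain ⟨y, hy⟩ := exists_col n hn' (h.exp _ (a * b).2) (coe_ne_one hab1) (hinv (a * b))
  have e81 := h.structure_eq hn' a.2 (coe_ne_one ha) b.2 (coe_ne_one hb1) (a * b).2 (coe_ne_one hab1)
    (hinv (a * b)) (fun hh => by rcases (key ha b).mp hh.1 with e | e <;> contradiction) hx hz hy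
  have e0 := h.structure_eq hn' a.2 (coe_ne_one ha) a.2 (coe_ne_one ha) b.2 (coe_ne_one hb1)
    (hinv b) (fun hh => by rcases (key ha b).mp hh.2 with e | e <;> contradiction) hx hx hz
  have c1 : Nat.card {p : S × S // IsConj (a : G) (p.1 : G) ∧ IsConj (b : G) (p.2 : G) ∧
      p.1 * p.2 = a * b} = 1 := by
    rw [Nat.card_eq_one_iff_unique]
    refine ⟨⟨fun p q => Subtype.ext ?_⟩, ⟨⟨(a, b), IsConj.refl _, IsConj.refl _, rfl⟩⟩⟩
    have : ∀ p : {p : S × S // IsConj (a : G) (p.1 : G) ∧ IsConj (b : G) (p.2 : G) ∧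
        p.1 * p.2 = a * b}, p.1 = (a, b) := by
      rintro ⟨⟨u, v⟩, hu, hv, huv⟩
      have hu' := (key ha u).mp hu
      have hv' := (key hb1 v).mp hv
      rcases solve h.hc h.h3 ha hb1 hba hba' u v (by tauto) (by tauto) huv with ⟨rfl, rfl⟩ | ⟨rfl, rfl⟩
      · rfl
      · rcases hu' with e | e
        · exact absurd e hba
        · exact absurd e hba'
    rw [this p, this q]
  have c0 : Nat.card {p : S × S // IsConj (a : G) (p.1 : G) ∧ IsConj (a : G) (p.2 : G) ∧
      p.1 * p.2 = b} = 0 := by
    rw [Nat.card_eq_zero]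
    left
    refine ⟨fun ⟨⟨u, v⟩, hu, hv, huv⟩ => ?_⟩
    simp only at huv
    rcases (key ha u).mp hu with e' | e' <;> rcases (key ha v).mp hv with e | e <;>
      rw [e, e'] at huv
    · exact hba' (by rw [← huv, ← inv_mul_inv h.h3 (a⁻¹), inv_inv])
    · exact hb1 (huv.symm.trans (mul_inv_cancel a))
    · exact hb1 (huv.symm.trans (inv_mul_cancel a))
    · exact hba (huv.symm.trans (inv_mul_inv h.h3 a))
  rw [Subtype.coe_eta, c1, Nat.cast_one, mul_one] at e81
  rw [Subtype.coe_eta, c0, Nat.cast_zero, mul_zero] at e0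
  have hne : ¬ IsConj (a : G) ((a * b : S) : G) := fun hh => by
    rcases (key ha _).mp hh with e | e <;> contradiction
  refine small_of_two z n Nat.card_pos hn ?_ ?_ ?_ (fun χ => ?_) hx.orth hy.orth (sum_sq_nat hn') e81 e0
  · exact (h.col_inner a.2 (coe_ne_one ha) hx hx).trans (if_pos (IsConj.refl _))
  · exact (h.col_inner (a * b).2 (coe_ne_one hab1) hy hy).trans (if_pos (IsConj.refl _))
  · have e := h.col_inner (a * b).2 (coe_ne_one hab1) hx hy
    rw [if_neg hne] at e
    exact e
  · have := dvd_sub (hy.mod χ) (hx.mod χ)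
    rwa [show (n χ : ℤ) - y χ - (n χ - x χ) = x χ - y χ by ring] at this

theorem Hyp.order_four (h : Hyp P S) (hN : Nat.card (Subgroup.normalizer (S : Set G)) = 9 * 4) :
    Nat.card G ≤ 720 := by
  classical
  haveI : Fintype G := Fintype.ofFinite G
  haveI : Fintype S := Fintype.ofFinite S
  haveI : Nontrivial S := Finite.one_lt_card_iff_nontrivial.mp (by rw [h.card]; norm_num)
  have hinv : ∀ s : S, IsConj (s : G) (s : G)⁻¹ := fun s => h.isConj_inv (by omega) s.2
  obtain ⟨a, ha⟩ := exists_ne (1 : S)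
  have ecard := h.card_fusion a.2 (coe_ne_one ha)
  rw [hN, Nat.card_eq_fintype_card, Fintype.card_subtype] at ecard
  obtain ⟨b, hb, hb'⟩ := Finset.exists_mem_notMem_of_card_lt_card (s := ({a, a⁻¹} : Finset S))
    (t := Finset.univ.filter fun u : S => IsConj (a : G) (u : G))
    (lt_of_le_of_lt Finset.card_le_two (by omega))
  simp only [Finset.mem_filter, Finset.mem_univ, true_and] at hb
  simp only [Finset.mem_insert, Finset.mem_singleton, not_or] at hb'
  obtain ⟨hba, hba'⟩ := hb'
  have hb1 : b ≠ 1 := fun e => coe_ne_one ha (isConj_one_left.mp (by simpa [e] using hb))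
  have key : ∀ u : S, IsConj (a : G) (u : G) ↔ u = a ∨ u = a⁻¹ ∨ u = b ∨ u = b⁻¹ := fun u => by
    rw [h.orbit_eq hN ha {a, a⁻¹, b, b⁻¹} (by
      intro v hv
      simp only [Finset.mem_insert, Finset.mem_singleton] at hv
      rcases hv with rfl | rfl | rfl | rfl
      · rfl
      · exact hinv a
      · exact hb
      · exact hb.trans (hinv b)) (by
      rw [Finset.card_insert_of_notMem, Finset.card_insert_of_notMem,
        Finset.card_pair (inv_ne_self h.h3 hb1).symm]
      · simp only [Finset.mem_insert, Finset.mem_singleton, not_or]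
        exact ⟨Ne.symm hba', fun e => hba (inv_injective e).symm⟩
      · simp only [Finset.mem_insert, Finset.mem_singleton, not_or]
        exact ⟨(inv_ne_self h.h3 ha).symm, Ne.symm hba, fun e => hba' (by rw [e, inv_inv])⟩)]
    simp
  obtain ⟨hab1, haba, haba', habb, habb'⟩ := mul_not_mem h.hc h.h3 ha hb1 hba hba'
  have hne : ¬ IsConj (a : G) ((a * b : S) : G) := fun hh => by
    rcases (key _).mp hh with e | e | e | e <;> contradiction
  obtain ⟨n, hn, hn', hn0⟩ := exists_degrees (G := G)
  obtain ⟨x, hx⟩ := exists_col n hn' (h.exp _ a.2) (coe_ne_one ha) (hinv a)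
  obtain ⟨y, hy⟩ := exists_col n hn' (h.exp _ (a * b).2) (coe_ne_one hab1) (hinv (a * b))
  have e162 := h.structure_eq hn' a.2 (coe_ne_one ha) a.2 (coe_ne_one ha) (a * b).2 (coe_ne_one hab1)
    (hinv (a * b)) (fun hh => hne hh.2) hx hx hy
  have c2 : Nat.card {p : S × S // IsConj (a : G) (p.1 : G) ∧ IsConj (a : G) (p.2 : G) ∧
      p.1 * p.2 = a * b} = 2 := by
    rw [Nat.card_eq_fintype_card, Fintype.card_subtype,
      show (Finset.univ.filter fun p : S × S => IsConj (a : G) (p.1 : G) ∧ IsConj (a : G) (p.2 : G) ∧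
        p.1 * p.2 = a * b) = {(a, b), (b, a)} from ?_, Finset.card_pair]
    · simp [Ne.symm hba]
    ext ⟨u, v⟩
    simp only [Finset.mem_filter, Finset.mem_univ, true_and, Finset.mem_insert, Finset.mem_singleton,
      Prod.mk.injEq]
    constructor
    · rintro ⟨hu, hv, huv⟩
      exact solve h.hc h.h3 ha hb1 hba hba' u v ((key u).mp hu) ((key v).mp hv) huv
    · rintro (⟨rfl, rfl⟩ | ⟨rfl, rfl⟩)
      · exact ⟨IsConj.refl _, hb, rfl⟩
      · exact ⟨hb, IsConj.refl _, h.hc _ _⟩
  rw [Subtype.coe_eta, c2] at e162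
  rw [show (81 : ℝ) * ((2 : ℕ) : ℝ) = 162 by norm_num] at e162
  refine small_of_four n ⟨fun _ => 1, isIrrCharacter_one⟩ hn hn0 hx.one hy.one ?_ ?_ ?_
    (fun χ => ?_) (fun χ => ?_) hx.orth hy.orth e162
  · exact (h.col_inner a.2 (coe_ne_one ha) hx hx).trans (if_pos (IsConj.refl _))
  · exact (h.col_inner (a * b).2 (coe_ne_one hab1) hy hy).trans (if_pos (IsConj.refl _))
  · have e := h.col_inner (a * b).2 (coe_ne_one hab1) hx hy
    rw [if_neg hne] at e
    exact e
  · have := dvd_sub (hy.mod χ) (hx.mod χ)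
    rwa [show (n χ : ℤ) - y χ - (n χ - x χ) = x χ - y χ by ring] at this
  · obtain ⟨m, hm⟩ := exists_sum_subgroup χ S
    have hcl := isClassFunction_of_isCharacter (isCharacter_of_isIrr χ.2)
    have hother : ∀ u : S, u ≠ 1 → ¬ IsConj (a : G) (u : G) → IsConj ((a * b : S) : G) (u : G) := by
      have e2 := h.card_fusion (a * b).2 (coe_ne_one hab1)
      rw [hN, Nat.card_eq_fintype_card, Fintype.card_subtype] at e2
      intro u hu1 hu
      let X := Finset.univ.filter fun v : S => v ≠ 1 ∧ ¬ IsConj (a : G) (v : G)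
      have hX : X.card = 4 := by
        have : X = (Finset.univ.erase (1 : S)) \ Finset.univ.filter fun v : S => IsConj (a : G) (v : G) := by
          ext v; simp [X]
        rw [this, Finset.card_sdiff_of_subset, Finset.card_erase_of_mem (Finset.mem_univ _),
          Finset.card_univ, ← Nat.card_eq_fintype_card, h.card]
        · omega
        · intro v hv
          simp at hv
          simp only [Finset.mem_erase, Finset.mem_univ, and_true]
          exact fun e => coe_ne_one ha (isConj_one_left.mp (by simpa [e] using hv))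
      have hsub : (Finset.univ.filter fun v : S => IsConj ((a * b : S) : G) (v : G)) ⊆ X := by
        intro v hv
        simp at hv
        simp only [X, Finset.mem_filter, Finset.mem_univ, true_and]
        exact ⟨fun e => coe_ne_one hab1 (isConj_one_left.mp (by simpa [e] using hv)),
          fun e => hne (e.trans (by simpa using hv.symm))⟩
      have := Finset.eq_of_subset_of_card_le hsub (by omega)
      have hu' : u ∈ X := by simp [X, hu1, hu]
      rw [← this] at hu'
      simpa using hu'
    have hsum : ∑ u : S, (χ : G → ℂ) u = ((n χ + 4 * x χ + 4 * y χ : ℤ) : ℂ) := by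
      rw [← Finset.add_sum_erase _ _ (Finset.mem_univ (1 : S)),
        Finset.sum_congr rfl (g := fun u : S => if IsConj (a : G) (u : G) then (x χ : ℂ) else (y χ : ℂ))
          (fun u hu => ?_), Finset.sum_ite, Finset.sum_const, Finset.sum_const]
      · have e1 : ((Finset.univ.erase (1 : S)).filter fun u : S => IsConj (a : G) (u : G)).card = 4 := by
          rw [Finset.filter_erase, Finset.erase_eq_of_notMem]
          · omega
          · simp only [Finset.mem_filter, Finset.mem_univ, true_and, OneMemClass.coe_one]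
            exact fun e => coe_ne_one ha (isConj_one_left.mp e)
        have e2 := Finset.card_filter_add_card_filter_not (s := Finset.univ.erase (1 : S))
          (fun u : S => IsConj (a : G) (u : G))
        rw [e1, Finset.card_erase_of_mem (Finset.mem_univ _), Finset.card_univ,
          ← Nat.card_eq_fintype_card, h.card] at e2
        rw [e1, show ((Finset.univ.erase (1 : S)).filter fun u : S => ¬ IsConj (a : G) (u : G)).card = 4 by
          omega, OneMemClass.coe_one, hn' χ]
        simp only [nsmul_eq_mul, Nat.cast_ofNat]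
        push_cast
        ring
      · simp only [Finset.mem_erase, Finset.mem_univ, and_true] at hu
        split_ifs with hc
        · rw [← hx.val χ]; exact (eq_of_isConj hcl hc).symm
        · rw [← hy.val χ]; exact (eq_of_isConj hcl (hother u hu hc)).symm
    rw [hsum, h.card] at hm
    exact ⟨m, by exact_mod_cast hm⟩

theorem iso_alternating_six [IsSimpleGroup G] (h : Hyp P S)
    (hclasses : ∃ a b : G, orderOf a = 3 ∧ orderOf b = 3 ∧ ∀ g : G, g * a * g⁻¹ ≠ b) :
    Nonempty (G ≃* alternatingGroup (Fin 6)) := by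
  classical
  haveI : Fact (Nat.Prime 3) := ⟨Nat.prime_three⟩
  haveI : Fintype S := Fintype.ofFinite S
  obtain ⟨m, hN⟩ : 9 ∣ Nat.card (Subgroup.normalizer (S : Set G)) :=
    h.card ▸ Subgroup.card_dvd_of_le Subgroup.le_normalizer
  have hi : (Subgroup.normalizer (S : Set G)).index % 3 = 1 := by
    have e := card_sylow_modEq_one 3 G
    rw [P.card_eq_index_normalizer] at e
    rw [h.eq]
    exact e
  have hG := Subgroup.card_mul_index (Subgroup.normalizer (S : Set G))
  rw [hN] at hG
  have hnc : ¬ IsMulCommutative G := fun hm => by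
    obtain ⟨a, b, ha, hb, -⟩ := hclasses
    letI : CommGroup G := { (inferInstance : Group G) with mul_comm := hm.is_comm.comm }
    have hp := IsSimpleGroup.prime_card (α := G)
    have h9 : 9 ∣ Nat.card G := h.card ▸ Subgroup.card_subgroup_dvd_card S
    have := (Nat.prime_dvd_prime_iff_eq Nat.prime_three hp).mp ((Dvd.intro 3 rfl).trans h9)
    omega
  have hm8 : m ≤ 8 := Nat.le_of_dvd (by norm_num) (h.dvd_eight hN)
  have hd := h.dvd_eight hN
  have h1 : m ≠ 1 := fun e => h.not_trivial (by rw [hN, e])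
  have h8 : m ≠ 8 := by
    intro e
    subst e
    obtain ⟨a, b, ha, hb, hne⟩ := hclasses
    have ha' : a ^ 3 = 1 := ha ▸ pow_orderOf_eq_one a
    have hb' : b ^ 3 = 1 := hb ▸ pow_orderOf_eq_one b
    obtain ⟨g, hg⟩ := h.exists_conj_elem ha'
    obtain ⟨g', hg'⟩ := h.exists_conj_elem hb'
    have hga : (⟨_, hg⟩ : S) ≠ 1 := fun e => by
      rw [conj_eq_one_iff.mp (congrArg Subtype.val e), orderOf_one] at ha; norm_num at ha
    have hgb : (⟨_, hg'⟩ : S) ≠ 1 := fun e => by
      rw [conj_eq_one_iff.mp (congrArg Subtype.val e), orderOf_one] at hb; norm_num at hb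
    have e := h.card_fusion hg (coe_ne_one hga)
    rw [hN, Nat.card_eq_fintype_card, Fintype.card_subtype] at e
    have hall := Finset.eq_of_subset_of_card_le
      (s := Finset.univ.filter fun u : S => IsConj (g * a * g⁻¹) (u : G))
      (t := Finset.univ.erase (1 : S)) (fun u hu => by
        simp at hu
        simp only [Finset.mem_erase, Finset.mem_univ, and_true]
        exact fun e' => coe_ne_one hga (isConj_one_left.mp (by simpa [e'] using hu)))
      (by rw [Finset.card_erase_of_mem (Finset.mem_univ _), Finset.card_univ,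
        ← Nat.card_eq_fintype_card, h.card]; omega)
    have hmem : (⟨_, hg'⟩ : S) ∈ Finset.univ.erase (1 : S) := by simp [hgb]
    rw [← hall, Finset.mem_filter] at hmem
    have : IsConj a b := (isConj_iff.mpr ⟨g, rfl⟩).trans (hmem.2.trans (isConj_iff.mpr ⟨g', rfl⟩).symm)
    obtain ⟨k, hk⟩ := isConj_iff.mp this
    exact hne k hk
  have hsmall : Nat.card G = 360 ∧ m = 4 := by
    obtain rfl | rfl : m = 2 ∨ m = 4 := by
      interval_cases m <;> first | omega | norm_num at hd
    · have hle := h.order_two hN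
      rcases Cfsg.Agent.S0496.result (G := G) hnc (by omega) with e | e | e | e | e | e <;> omega
    · have hle := h.order_four hN
      rcases Cfsg.Agent.S0496.result (G := G) hnc (by omega) with e | e | e | e | e | e <;> omega
  exact Cfsg.Agent.S0497.result hsmall.1

end CfsgLib.NineSelfCent
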